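import Cfsg.Agent.Lib.TZ.MSc

set_option autoImplicit false

namespace CfsgLib.TZ

open Subgroup Cfsg CfsgLib.FT CfsgLib.FT.BGN CfsgLib.GW CfsgLib.Wal
open CfsgLib.FT.U4 (mem_cent1 mem_cent1' mem_cent mem_cent1_comm cent1_conj conj_mem_conj_iff
  orderOf_conj)
open scoped commutatorElement
open Msc

variable {X : Type*} [Group X] [Finite X] {V M R B : Subgroup X}

theorem msq_eq_bot (h : MS V M R B) {f t : X} (hf : Fi M f) (ht : t * t = 1)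
    (hi : t * f * t⁻¹ = f⁻¹) {U : Subgroup X} (hU : U ≤ ⁅V, zpowers f⁆) (h1 : f ∈ 𝐍(U))
    (h2 : U ≤ 𝐂[t]) : U = ⊥ := by
  have := (h.free hf.odd ht hi (hU.trans (cm_le (h.MV hf.mem))) (le_bot_iff.1
    ((inf_le_inf_right _ hU).trans (h.split hf.mem hf.odd).1.le)) h1
    (mem_normalizer_of_conj_mem fun x hx => by
      rwa [← mem_cent1.1 (h2 hx), mul_inv_cancel_right])).1
  rw [inf_eq_left.2 h2] at this
  have h0 : 0 < Nat.card U := Nat.card_pos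
  exact card_eq_one.1 (by nlinarith)

theorem MS.q1' (h : MS V M R B) (A : Subgroup X) : El A → A ≤ M → A ≠ ⊥ →
    2 * Nat.card A < (𝐂(A)).relIndex V := by
  have := Fact.mk Nat.prime_two
  induction A using WellFoundedLT.induction with
  | ind A ih =>
  intro hA hAM h1
  obtain ⟨⟨a, ha⟩, ha1⟩ := ne_bot_iff_exists_ne_one.1 h1
  have ha1' : a ≠ 1 := fun e => ha1 (Subtype.ext e)
  obtain ⟨f, hf, hi, hx⟩ := exists_fi h hA hAM ha ha1'
  have hn : a ∉ 𝐂[f] := fun e => hf.not_both e hi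
  have hlt : 𝐂[f] ⊓ A < A := inf_lt_right.2 fun e => hn (e ha)
  have h2 : (𝐂[f]).relIndex A = 2 := by
    refine ((Nat.dvd_prime Nat.prime_two).1 (relIndex_dvd_two_iff.2 ⟨a, ha, fun x hx' =>
      hA.comm ha hx' ▸ (hx x hx').symm⟩)).resolve_left fun e => hn (relIndex_eq_one.1 e ha)
  have h3 := card_inf_mul_relIndex 𝐂[f] A
  have hp : ∀ K : Subgroup X, K.relIndex V ≠ 0 := fun K => index_ne_zero_of_finite
  by_cases h0 : 𝐂[f] ⊓ A = ⊥
  · have h4 := (h.d3 (hAM ha) (hA a ha) ha1').trans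
      (relIndex_le_of_le_left (U4.cent_le_cent1 ha) (hp _))
    rw [h0, card_bot, h2] at h3
    omega
  have h4 := ih _ hlt (hA.mono inf_le_right) (inf_le_right.trans hAM) h0
  have h5 : 𝐂(A) ≤ 𝐂(𝐂[f] ⊓ A) := centralizer_le (inf_le_right : 𝐂[f] ⊓ A ≤ A)
  have h6 := relIndex_mul_relIndex _ _ _ (inf_le_inf_right V h5) inf_le_right
  rw [inf_relIndex_right, inf_relIndex_right] at h6
  have h7 : (𝐂(A) ⊓ V).relIndex (𝐂(𝐂[f] ⊓ A) ⊓ V) ≠ 1 := fun e => by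
    have e1 := relIndex_eq_one.1 e
    have hW : ⁅V, zpowers f⁆ ≤ V := cm_le (h.MV hf.mem)
    have hN : 𝐂[f] ⊓ A ≤ 𝐍(⁅V, zpowers f⁆) := fun x hx =>
      norm_cm (h.MV (hAM hx.2)) (norm_zp_cent hx.1)
    have hP := isPGroup_sup' hN (h.el.mono hW).isPGroup (hA.mono inf_le_right).isPGroup
    refine inf_centralizer_ne_bot_of_isNilpotent hP.isNilpotent le_sup_left
      (sup_le le_normalizer hN) (W_ne h hf.mem hf.ne_one) (le_bot_iff.1 (le_trans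
        (inf_le_inf_left _ (centralizer_le (le_sup_right : 𝐂[f] ⊓ A ≤ _)))
        (msq_eq_bot h hf (hA a ha) hi inf_le_left (norm_inf (norm_cm (h.MV hf.mem)
          (le_normalizer (mem_zpowers f))) ?_) fun x hx => ?_).le))
    · exact le_normalizer (mem_cent.2 fun x hx => mem_cent1.1 hx.1)
    · exact U4.cent_le_cent1 ha (e1 ⟨hx.2, hW hx.1⟩).1
  have h8 : (𝐂(A) ⊓ V).relIndex (𝐂(𝐂[f] ⊓ A) ⊓ V) ≠ 0 := index_ne_zero_of_finite
  rw [← h6, ← h3, h2]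
  generalize (𝐂(A) ⊓ V).relIndex (𝐂(𝐂[f] ⊓ A) ⊓ V) = m at h7 h8
  have : 2 ≤ m := by omega
  nlinarith

theorem MS.qi' (h : MS V M R B) {A : Subgroup X} (h1 : A ≤ M)
    (h2 : ∀ v ∈ V, ∀ b ∈ A, ∀ b' ∈ A, ⁅⁅v, b⁆, b'⁆ = 1) {r r' : X} (hr : r ∈ A) (hr' : r' ∈ A)
    (h3 : ⁅V, zpowers r⁆ = ⁅V, zpowers r'⁆) : r = r' := by
  have hA : El A := fun b hb => eq_one h (h1 (mul_mem hb hb)) fun v hv => by
    have e1 := commutatorElement_eq_one_iff_mul_comm.1 (h2 v hv b hb b hb)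
    have e2 := h.el _ (cm_le (h.MV (h1 hb)) (cm_mem hv))
    rw [mem_cent1]
    calc v * (b * b) = ⁅v, b⁆ * (b * ⁅v, b⁆) * b * v := by
          simp only [commutatorElement_def]; group
      _ = _ := by rw [← e1, ← mul_assoc ⁅v, b⁆, e2, one_mul]
  by_contra hne
  have hb := mul_mem (inv_mem hr) hr'
  obtain ⟨f, hf, hi, hx⟩ := exists_fi h hA h1 hb fun e => hne (inv_mul_eq_one.1 e)
  have key : ∀ s ∈ A, ∀ s' ∈ A, ⁅V, zpowers s⁆ = ⁅V, zpowers s'⁆ → s ∈ 𝐂[f] →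
      r⁻¹ * r' * s' ∈ 𝐂[f] → False := fun s hs s' hs' e e1 e2 => by
    have e3 := inv_of_mul (hA _ hb) hi e2
    have hW : ⁅V, zpowers f⁆ ≤ V := cm_le (h.MV hf.mem)
    have n1 : f ∈ 𝐍(⁅V, zpowers f⁆) := norm_cm (h.MV hf.mem) (le_normalizer (mem_zpowers f))
    have n2 : s' ∈ 𝐍(⁅V, zpowers f⁆) := norm_cm (h.MV (h1 hs')) (norm_zp_inv e3)
    have e4 := msq_eq_bot h hf (hA _ hs') e3 (U := ⁅V, zpowers f⁆ ⊓ ⁅V, zpowers s⁆) inf_le_left
      (norm_inf n1 (norm_cm (h.MV hf.mem) (norm_zp_cent (mem_cent1_comm.1 e1))))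
      (inf_le_right.trans (e ▸ cm_le_cent h.el (h.MV (h1 hs')) (hA _ hs')))
    exact W_ne h hf.mem hf.ne_one (msq_eq_bot h hf (hA _ hs') e3 le_rfl n1 (le_cent_of_cm
      (le_bot_iff.1 ((le_inf (cm_le n2) (e ▸ commutator_mono hW le_rfl)).trans e4.le))))
  have e1 : r⁻¹ * r' * r = r' := by rw [mul_assoc, hA.comm hr' hr, inv_mul_cancel_left]
  rcases hx r hr with e | e
  · exact key r hr r' hr' h3 e (by rwa [mul_assoc, hA r' hr', mul_one, inv_mem_iff])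
  · exact key r' hr' r hr h3.symm (e1 ▸ e) e

end CfsgLib.TZ
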