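import Cfsg.Agent.Lib.TG.Main
import Cfsg.Agent.Lib.TZ.Up
import Cfsg.Agent.Lib.TZ.Gs
import Cfsg.Agent.Lib.TZ.Ind3

set_option autoImplicit false

namespace CfsgLib.TZ

open Subgroup Cfsg CfsgLib.FT CfsgLib.FT.BGN CfsgLib.GW CfsgLib.Wal CfsgLib.TG

universe u

theorem TC.false {X : Type*} [Group X] [Finite X] {P : Subgroup X} {𝔄 : Subgroup (MulAut X)}
    (h0 : TC P 𝔄) : False := by
  obtain ⟨T, hS⟩ := h0.exists_TS
  have h := hS.gs h0
  refine h.false_of_wc h0.simple h0.nonab hS.ne ?_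
  by_contra nwc
  obtain ⟨X0, L, E, hf⟩ := h.exists_FFc nwc
  obtain ⟨W, P', A, u, z0, d, hs⟩ := h.seed hf
  obtain ⟨W', u', hv⟩ := hs.vx h
  exact h0.false_of_vx hS.le hS.inv h hv

theorem noTC : NoTC.{u} := fun _ _ _ _ _ h => h.false

end CfsgLib.TZ
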