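import Cfsg.Agent.Lib.TZ.Red0
import Cfsg.Agent.Lib.TG.Main

/-! Reduction for `TZ.Thm`, first step: proper invariant normal subgroups are central. -/

set_option autoImplicit false
set_option linter.unusedSectionVars false

namespace CfsgLib.TZ

open Subgroup Cfsg CfsgLib.FT CfsgLib.FT.BGN CfsgLib.GW CfsgLib.Wal CfsgLib.TG CfsgLib.H1
open CfsgLib.FT.U4 (mem_cent1 mem_cent)

attribute [local instance] Cit.factTwo

universe u

namespace R1

variable {X : Type u} [Group X] [Finite X] {G A : Subgroup X}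

theorem odd_A (h : Hy G A) (hns : ¬ Group.IsSolvable G) : Odd (Nat.card A) := by
  have h1 : ¬ Odd (Nat.card G) := fun e => hns (solvable_of_odd e)
  exact Nat.coprime_two_right.1 (Nat.Coprime.coprime_dvd_right
    (even_iff_two_dvd.1 (Nat.not_odd_iff_even.1 h1)) h.cop)

theorem lift (hAG : A ≤ 𝐍(G)) (hcop : (Nat.card A).Coprime (Nat.card G))
    (hA : Group.IsSolvable A) (N : Subgroup X) [N.Normal] {y : X ⧸ N}
    (hy : y ∈ G.map (QuotientGroup.mk' N)) (hc : y ∈ 𝐂(A.map (QuotientGroup.mk' N)))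
    (h2 : y * y = 1) :
    ∃ t ∈ G, t ∈ 𝐂(A) ∧ QuotientGroup.mk' N t = y ∧ ∃ k : ℕ, t ^ 2 ^ k = 1 := by
  have h3 : y ∈ (G ⊓ 𝐂(A)).map (QuotientGroup.mk' N) := by
    rw [← Cop.map_mk'_inf_centralizer N hAG
      (hcop.coprime_dvd_right (card_dvd_of_le inf_le_left)) (Or.inl hA)]
    exact ⟨hy, hc⟩
  obtain ⟨c, hc', rfl⟩ := h3
  obtain ⟨k, m, ⟨j, rfl⟩, h4, -⟩ := exists_odd_pow c
  refine ⟨c ^ (2 * j + 1), pow_mem hc'.1 _, pow_mem hc'.2 _, ?_, k, h4⟩
  rw [map_pow, pow_succ, pow_mul, sq, h2, one_pow, one_mul]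

omit [Finite X] in
theorem solv (N : Subgroup X) [N.Normal] (hN : N ≤ G) (h1 : Group.IsSolvable N)
    (h2 : Group.IsSolvable (G.map (QuotientGroup.mk' N))) : Group.IsSolvable G := by
  refine solvable_of_ker_le_range (inclusion hN) ((QuotientGroup.mk' N).subgroupMap G)
    fun x hx => ?_
  exact ⟨⟨x, (QuotientGroup.eq_one_iff _).1 (congrArg Subtype.val hx)⟩, rfl⟩

omit [Finite X] in
theorem map_norm (hAG : A ≤ 𝐍(G)) (N : Subgroup X) [N.Normal] :
    A.map (QuotientGroup.mk' N) ≤ 𝐍(G.map (QuotientGroup.mk' N)) :=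
  (map_mono hAG).trans (le_normalizer_map _)

theorem map_cop (hcop : (Nat.card A).Coprime (Nat.card G)) (N : Subgroup X) [N.Normal] :
    (Nat.card (A.map (QuotientGroup.mk' N))).Coprime (Nat.card (G.map (QuotientGroup.mk' N))) :=
  (hcop.coprime_dvd_right (card_map_dvd _ _)).coprime_dvd_left (card_map_dvd _ _)

theorem cq_quot (h : Hy G A) (hA : Group.IsSolvable A) (N : Subgroup X) [N.Normal] (hN : N ≤ G)
    (Q : Subgroup (X ⧸ N)) (h1 : Q ≤ G.map (QuotientGroup.mk' N)) (h2 : IsPGroup 2 Q)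
    (h3 : A.map (QuotientGroup.mk' N) ≤ 𝐍(Q)) : Q ⊓ 𝐂(A.map (QuotientGroup.mk' N)) ≤ 𝐂(Q) := by
  set π := QuotientGroup.mk' N with hπ
  have hk : π.ker = N := QuotientGroup.ker_mk' N
  have a1 : Q.comap π ≤ G := by
    have : Q.comap π ≤ (G.map π).comap π := comap_mono h1
    rwa [comap_map_eq, hk, sup_eq_left.2 hN] at this
  have a2 : A ≤ 𝐍(Q.comap π) := (map_le_iff_le_comap.1 h3).trans (le_normalizer_comap π)
  obtain ⟨P, hP, hAP⟩ := Cop.exists_invariant_sylowOf 2 a2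
    (h.cop.coprime_dvd_right (card_dvd_of_le a1)) (Or.inl hA)
  have hP' : IsSylowIn 2 P (Q.comap π) := Cop.isPiHallOf_singleton_iff.1 hP
  have a3 := hP'.map π
  rw [map_comap_eq_self_of_surjective (QuotientGroup.mk'_surjective N)] at a3
  have a4 : P.map π = Q := (a3.eq_of_le h2 a3.le le_rfl).symm
  have a5 := h.cq P (hP'.le.trans a1) hP'.isPGroup hAP
  rw [← a4, Cop.map_mk'_inf_centralizer N hAP (h.cop.coprime_dvd_right
    (card_dvd_of_le (inf_le_left.trans (hP'.le.trans a1)))) (Or.inl hA)]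
  rintro _ ⟨x, hx, rfl⟩ _ ⟨y, hy, rfl⟩
  rw [← map_mul, ← map_mul, mem_cent.1 (a5 hx) y hy]

theorem card_lt (N : Subgroup X) [N.Normal] (hN : N ≤ G) (h0 : N ≠ ⊥) :
    Nat.card (G.map (QuotientGroup.mk' N)) < Nat.card G := by
  have h8 : Nat.card (G.map (QuotientGroup.mk' N)) * Nat.card N = Nat.card G := by
    rw [← relIndex_ker, QuotientGroup.ker_mk', ← Nat.card_congr (subgroupOfEquivOfLe hN).toEquiv,
      mul_comm]
    exact card_mul_index _
  rw [← h8]
  exact lt_mul_of_one_lt_right Nat.card_pos (one_lt_card_iff_ne_bot N |>.2 h0)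

/-- Normal subgroups of odd order are trivial. -/
theorem odd_eq_bot (ih : ∀ m < Nat.card G, RdN.{u} m) (h : Hy G A) (hns : ¬ Group.IsSolvable G)
    (N : Subgroup X) [N.Normal] (hN : N ≤ G) (ho : Odd (Nat.card N)) : N = ⊥ := by
  by_contra h0
  have hA := solvable_of_odd (odd_A h hns)
  refine hns (solv N hN (solvable_of_odd ho) (ih _ (card_lt N hN h0) _ _ _ rfl
    ⟨map_norm h.norm N, map_cop h.cop N, cq_quot h hA N hN, fun y hy h2 hc => ?_⟩))
  obtain ⟨t, ht, htA, rfl, k, hk⟩ := lift h.norm h.cop hA N hy hc h2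
  have h3 : t * t ∈ N := (QuotientGroup.eq_one_iff _).1 (by rw [← h2]; rfl)
  have h4 : t * t = 1 := by
    have e1 : orderOf (t * t) ∣ 2 ^ k := orderOf_dvd_of_pow_eq_one (by
      rw [← sq, ← pow_mul, mul_comm, pow_mul, hk, one_pow])
    have e2 : orderOf (t * t) ∣ Nat.card N := orderOf_dvd_natCard _ h3
    exact orderOf_eq_one_iff.1 (Nat.eq_one_of_dvd_coprimes
      ((Nat.coprime_two_left.2 ho).pow_left k) e1 e2)
  have h5 := h.ct t ht h4 htA
  rintro _ ⟨g, hg, rfl⟩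
  rw [← map_mul, ← map_mul, mem_cent.1 h5 g hg]

/-- The product over the class of an element of an abelian normal subgroup. -/
theorem class_prod [hG : G.Normal] (hs : G ⊔ A = ⊤) (V : Subgroup X) [hV : V.Normal]
    (hc : V ≤ 𝐂(V)) {t : X} (ht : t ∈ V) (htA : t ∈ 𝐂(A)) (h2 : t * t ∈ 𝐂(G)) :
    ∃ s ∈ V, (∀ x : X, x * s * x⁻¹ = s) ∧ s * s = (t * t) ^ (𝐂[t]).index := by
  classical
  let _ : CommGroup V :=
    { (inferInstance : Group V) with
      mul_comm := fun a b => Subtype.ext (mem_cent.1 (hc b.2) a a.2) }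
  let O : Finset V := (Set.toFinite (MulAction.orbit (ConjAct X) (⟨t, ht⟩ : V))).toFinset
  have hO : ∀ y : V, y ∈ O ↔ y ∈ MulAction.orbit (ConjAct X) (⟨t, ht⟩ : V) := fun y => by simp [O]
  refine ⟨((∏ y ∈ O, y : V) : X), Subtype.prop _, fun x => ?_, ?_⟩
  · have h1 : ConjAct.toConjAct x • (∏ y ∈ O, y) = ∏ y ∈ O, y := by
      rw [Finset.smul_prod']
      refine Finset.prod_nbij (fun y => ConjAct.toConjAct x • y) (fun y hy => ?_)
        (fun y _ z _ e => MulAction.injective _ e) (fun y hy => ?_) fun _ _ => rfl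
      · exact (hO _).2 (MulAction.mem_orbit_of_mem_orbit _ ((hO _).1 hy))
      · exact ⟨(ConjAct.toConjAct x)⁻¹ • y, (hO _).2 (MulAction.mem_orbit_of_mem_orbit _
          ((hO _).1 hy)), smul_inv_smul _ _⟩
    exact congrArg Subtype.val h1
  · have h3 : ∀ x : X, x * (t * t) * x⁻¹ = t * t := fun x => by
      obtain ⟨g, hg, a, ha, rfl⟩ := mem_sup_of_normal_left.1 (hs ▸ mem_top x : x ∈ G ⊔ A)
      have e1 := mem_cent.1 (mul_mem htA htA) a ha
      have e2 := mem_cent.1 h2 g hg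
      calc g * a * (t * t) * (g * a)⁻¹ = g * (a * (t * t)) * a⁻¹ * g⁻¹ := by group
        _ = g * (t * t) * g⁻¹ := by rw [e1]; group
        _ = _ := by rw [e2]; group
    have h4 : (∏ y ∈ O, y) * (∏ y ∈ O, y) = (⟨t, ht⟩ * ⟨t, ht⟩ : V) ^ O.card := by
      rw [← Finset.prod_mul_distrib, ← Finset.prod_const]
      refine Finset.prod_congr rfl fun y hy => ?_
      obtain ⟨x, rfl⟩ := (hO _).1 hy
      refine Subtype.ext ?_
      change (ConjAct.ofConjAct x * t * (ConjAct.ofConjAct x)⁻¹) *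
        (ConjAct.ofConjAct x * t * (ConjAct.ofConjAct x)⁻¹) = t * t
      rw [← h3 (ConjAct.ofConjAct x)]; group
    have h5 : O.card = (𝐂[t]).index := by
      let φ : X →* ConjAct X := (ConjAct.toConjAct : X ≃* ConjAct X).toMonoidHom
      have e1 : (𝐂[t] : Subgroup X) =
          (MulAction.stabilizer (ConjAct X) (⟨t, ht⟩ : V)).comap φ := by
        ext x
        rw [mem_comap, MulAction.mem_stabilizer_iff, Subtype.ext_iff, mem_cent1]
        exact (mul_inv_eq_iff_eq_mul (a := x * t)).symm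
      rw [e1, index_comap_of_surjective _ (f := φ) ConjAct.toConjAct.surjective,
        MulAction.index_stabilizer, Set.ncard_eq_toFinset_card _ (Set.toFinite _)]
    rw [← h5]
    simpa using congrArg Subtype.val h4

/-- `O₂(G)` is central. -/
theorem core_le [hG : G.Normal] (ih : ∀ m < Nat.card G, RdN.{u} m) (h : Hy G A) (hs : G ⊔ A = ⊤)
    (hns : ¬ Group.IsSolvable G) : pCoreOf 2 G ≤ 𝐂(G) := by
  by_contra hQ
  have ho := odd_A h hns
  have hA := solvable_of_odd ho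
  have nrm : ∀ {H : Subgroup X}, ⊤ ≤ 𝐍(H) → H.Normal := fun e => normalizer_eq_top_iff.1 (top_le_iff.1 e)
  have top : ∀ (H : Subgroup X) [H.Normal], ⊤ ≤ 𝐍(H) := fun H _ => le_normalizer_of_normal
  have hQn : (pCoreOf 2 G).Normal := nrm ((top G).trans (normalizer_le_normalizer_pCoreOf G))
  have hQp : IsPGroup 2 (pCoreOf 2 G) := pCoreOf_isPGroup G
  have hQG : pCoreOf 2 G ≤ G := pCoreOf_le G
  have hQm : ∀ R : Subgroup X, R ≤ G → R.Normal → IsPGroup 2 R → R ≤ pCoreOf 2 G :=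
    fun R h1 h2 h3 => le_pCoreOf h1 le_normalizer_of_normal h3
  generalize pCoreOf 2 G = Q at hQ hQn hQp hQG hQm
  -- `C = C_G(Q)` is an abelian group
  have hCn : (G ⊓ 𝐂(Q)).Normal := inferInstance
  have hCs : Group.IsSolvable (G ⊓ 𝐂(Q) : Subgroup X) :=
    ih _ (card_lt_card_of_lt (lt_of_le_of_ne inf_le_left fun e =>
      hQ (le_centralizer_iff.1 (e.ge.trans inf_le_right)))) X _ A rfl
      (h.sub inf_le_left le_normalizer_of_normal)
  have hFn : (fittingOf (G ⊓ 𝐂(Q))).Normal :=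
    nrm ((top _).trans (normalizer_le_normalizer_fittingOf _))
  have hFG : fittingOf (G ⊓ 𝐂(Q)) ≤ G := (H1.fittingOf_le _).trans inf_le_left
  have hFQ : fittingOf (G ⊓ 𝐂(Q)) ≤ Q := by
    rw [← pCoreOf_sup_piCoreOf_of_isNilpotent 2 (fittingOf_isNilpotent (G ⊓ 𝐂(Q)))]
    refine sup_le (hQm _ ((pCoreOf_le _).trans hFG)
      (nrm ((top _).trans (normalizer_le_normalizer_pCoreOf _))) (pCoreOf_isPGroup _)) ?_
    have := nrm ((top (fittingOf (G ⊓ 𝐂(Q)))).trans (normalizer_le_normalizer_piCoreOf (π := {2}ᶜ) _))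
    rw [odd_eq_bot ih h hns _ ((H1.piCoreOf_le _).trans hFG)
      (Nat.coprime_two_right.1 (piCoreOf_compl_coprime 2 _))]
    exact bot_le
  have hCQ : G ⊓ 𝐂(Q) ≤ Q :=
    (le_inf le_rfl (inf_le_right.trans (centralizer_le hFQ))).trans
      ((inf_centralizer_fittingOf_le (layerIn_eq_bot_of_isSolvable hCs)).trans hFQ)
  have hCc : G ⊓ 𝐂(Q) ≤ 𝐂((G ⊓ 𝐂(Q) : Subgroup X)) := inf_le_right.trans (centralizer_le hCQ)
  -- the quotient by the centre
  have hZs : Group.IsSolvable (G ⊓ 𝐂(G) : Subgroup X) := by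
    exact isSolvable_of_comm fun a b => Subtype.ext (mem_cent.1 b.2.2 a a.2.1)
  refine hns (solv (G ⊓ 𝐂(G)) inf_le_left hZs (rdN_of_noTC (fun _ _ _ _ _ k => k.false) _ _ _
    (A.map (QuotientGroup.mk' _)) rfl (map_norm h.norm _)
    (PCompl.hnpc_map (PCompl.hnpc_of_coprime (Nat.coprime_two_right.2 ho)) _)
    fun y hy h2 h3 => ?_))
  obtain ⟨g, hg, h4⟩ := Cop.exists_conj_mem_centralizer (map_norm h.norm _) (map_cop h.cop _)
    (Or.inl (Cop.solvable_map hA _)) h3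
  obtain ⟨t, ht, htA, e, k, hk⟩ := lift h.norm h.cop hA _ (mul_mem (mul_mem hg hy) (inv_mem hg)) h4
    (by calc g * y * g⁻¹ * (g * y * g⁻¹) = g * (y * y) * g⁻¹ := by group
          _ = 1 := by rw [h2]; group)
  have h5 : t * t ∈ G ⊓ 𝐂(G) := (QuotientGroup.eq_one_iff _).1 (by
    change QuotientGroup.mk' _ (t * t) = 1
    rw [map_mul, e]
    calc g * y * g⁻¹ * (g * y * g⁻¹) = g * (y * y) * g⁻¹ := by group
      _ = 1 := by rw [h2]; group)
  obtain ⟨P, hP, hAP, htP⟩ := Cop.exists_invariant_sylowOf_ge h.norm h.cop (Or.inl hA)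
    (TG.isPGroup_zpowers_of_pow hk) (zpowers_le.2 ht)
    ((le_centralizer_iff.1 (zpowers_le.2 htA)).trans (centralizer_le_normalizer _))
  have hP' : IsSylowIn 2 P G := Cop.isPiHallOf_singleton_iff.1 hP
  have h6 : t ∈ 𝐂(P) := h.cq P hP'.le hP'.isPGroup hAP ⟨htP (mem_zpowers t), htA⟩
  have h7 : Q ≤ P := Cop.le_sylowOf_of_le_normalizer hP hQp hQG le_normalizer_of_normal
  have h8 : t ∈ G ⊓ 𝐂(Q) := ⟨ht, centralizer_le h7 h6⟩
  obtain ⟨s, hsV, hs1, hs2⟩ := class_prod hs _ hCc h8 htA h5.2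
  have h9 : Odd (𝐂[t]).index := by
    refine Odd.of_dvd_nat ?_ (index_dvd_of_le (H := P) fun x hx => mem_cent1.2 (mem_cent.1 h6 x hx))
    rw [← relIndex_mul_index hP'.le]
    refine (Nat.odd_iff.2 (Nat.two_dvd_ne_zero.1 hP'.not_dvd)).mul (ho.of_dvd_nat ?_)
    rw [← relIndex_top_right, ← hs, relIndex_sup_left]
    exact relIndex_dvd_card _ _
  generalize (𝐂[t]).index = m at hs2 h9
  have hsG : s ∈ 𝐂(G) := mem_cent.2 fun x _ => mul_inv_eq_iff_eq_mul.1 (hs1 x)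
  have hsA : s ∈ 𝐂(A) := mem_cent.2 fun x _ => mul_inv_eq_iff_eq_mul.1 (hs1 x)
  have h10 : s⁻¹ * t ^ m ∈ 𝐂(G) := by
    refine h.ct _ (mul_mem (inv_mem hsV.1) (pow_mem ht m)) ?_ (mul_mem (inv_mem hsA) (pow_mem htA m))
    calc s⁻¹ * t ^ m * (s⁻¹ * t ^ m) = s⁻¹ * (t ^ m * s * (t ^ m)⁻¹)⁻¹ * (t ^ m * t ^ m) := by group
      _ = (s * s)⁻¹ * (t * t) ^ m := by
        rw [hs1, ← sq t, ← pow_mul, two_mul, pow_add]; group
      _ = 1 := by rw [hs2, inv_mul_cancel]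
  have h11 : t ∈ 𝐂(G) := by
    refine FrobNPC.mem_of_pow_mem_of_coprime (n := m) ?_ (by simpa using mul_mem hsG h10)
    exact Nat.Coprime.coprime_dvd_left (orderOf_dvd_of_pow_eq_one hk)
      ((Nat.coprime_two_left.2 h9).pow_left k)
  have h12 : g * y * g⁻¹ = 1 := e ▸ (QuotientGroup.eq_one_iff _).2 ⟨ht, h11⟩
  simpa using h12

end R1

open R1

theorem red1 {X : Type u} [Group X] [Finite X] {G A : Subgroup X} [G.Normal]
    (ih : ∀ m < Nat.card G, RdN.{u} m) (h : Hy G A) (hs : G ⊔ A = ⊤)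
    (hns : ¬ Group.IsSolvable G) : IsPGroup 2 (G ⊓ 𝐂(G) : Subgroup X) ∧
      ∀ N : Subgroup X, N.Normal → N ≤ G → N ≠ G → N ≤ 𝐂(G) := by
  have nrm : ∀ {H : Subgroup X}, ⊤ ≤ 𝐍(H) → H.Normal := fun e => normalizer_eq_top_iff.1 (top_le_iff.1 e)
  have top : ∀ (H : Subgroup X) [H.Normal], ⊤ ≤ 𝐍(H) := fun H _ => le_normalizer_of_normal
  have key : ∀ F : Subgroup X, F.Normal → F ≤ G → Group.IsNilpotent F → IsPGroup 2 F := by
    intro F h1 h2 h3
    have := nrm ((top F).trans (normalizer_le_normalizer_piCoreOf (π := {2}ᶜ) _))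
    rw [← pCoreOf_sup_piCoreOf_of_isNilpotent 2 h3, odd_eq_bot ih h hns _ ((H1.piCoreOf_le _).trans h2)
      (Nat.coprime_two_right.1 (piCoreOf_compl_coprime 2 _)), sup_bot_eq]
    exact pCoreOf_isPGroup _
  refine ⟨key _ inferInstance inf_le_left ?_, fun N h1 h2 h3 => ?_⟩
  · have : IsMulCommutative (G ⊓ 𝐂(G) : Subgroup X) :=
      ⟨⟨fun a b => Subtype.ext (mem_cent.1 b.2.2 a a.2.1)⟩⟩
    letI : CommGroup (G ⊓ 𝐂(G) : Subgroup X) :=
      { (inferInstance : Group (G ⊓ 𝐂(G) : Subgroup X)) with mul_comm := this.is_comm.comm }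
    infer_instance
  have h4 : Group.IsSolvable N := ih _ (card_lt_card_of_lt (lt_of_le_of_ne h2 h3)) X _ A rfl
    (h.sub h2 le_normalizer_of_normal)
  have h5 : fittingOf N ≤ 𝐂(G) := (le_pCoreOf ((H1.fittingOf_le _).trans h2)
    (le_top.trans ((top N).trans (normalizer_le_normalizer_fittingOf _)))
    (key _ (nrm ((top N).trans (normalizer_le_normalizer_fittingOf _))) ((H1.fittingOf_le _).trans h2)
      (fittingOf_isNilpotent N))).trans (core_le ih h hs hns)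
  exact (le_inf le_rfl (h2.trans (le_centralizer_iff.1 h5))).trans
    ((inf_centralizer_fittingOf_le (layerIn_eq_bot_of_isSolvable h4)).trans h5)

end CfsgLib.TZ
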