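import Cfsg.Agent.Lib.TZ.Main
import Cfsg.Agent.Lib.TZ.Red1
import Cfsg.Agent.Lib.TZ.Red2
import Cfsg.Agent.Lib.TZ.Red3
import Cfsg.Agent.Lib.TZ.Red4
import Cfsg.Agent.Lib.TZ.Fin
import Cfsg.Agent.Lib.TZ.FixV
import Cfsg.Agent.Lib.TZ.FixR

/-! The theorem `TZ.Thm`. -/

set_option autoImplicit false

namespace CfsgLib.TZ

universe u

theorem thm7 : Thm.{u} := thm_of_step fun _ _ _ _ _ _ ih hy hs => by
  by_contra hns
  obtain ⟨hz, hN⟩ := red1 ih hy hs hns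
  exact red3 noTC ih hy hns hz (red2 ih hy hs hns hz hN)
    fun _ _ _ _ _ _ π surj hk 𝔅 cop hsol Ph pg inv kerle cq ct 𝔄 hA =>
      ⟨fixV_core π surj hk 𝔅 cop Ph pg inv kerle cq ct 𝔄 hA hsol,
        fixR_core π surj hk 𝔅 cop Ph pg inv kerle cq ct 𝔄 hA,
        fin_core0 π surj hk 𝔅 cop Ph pg inv kerle cq ct 𝔄 hA⟩

end CfsgLib.TZ
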